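import Cfsg.Agent.Lib.SporRecognition.Cert.He15120.Upper

/-! A relation of the Held group among a, c, d, e, read off from the enumeration over the trivial subgroup. -/

set_option autoImplicit false
set_option linter.all false

namespace CfsgLib.SporRecognition.Cert.He15120

open CfsgLib.SporRecognition.CosetCert

theorem xrel_one :
    evalW (PresentedGroup.of (rels := (Cfsg.Spor.coxRelators Cfsg.Spor.He.edges ∪ {r | r ∈ Cfsg.Spor.He.extra})))
      ([(.e, true), (.d, true), (.c, true), (.d, true), (.e, true), (.d, true), (.c, true), (.d, true), (.c, true), (.d, true), (.e, true), (.d, true), (.c, true), (.d, true), (.c, true)] : List (Cfsg.Spor.He.Gen × Bool)) = 1 := by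
  have h := mem_of_section (n := 15120) (by decide) sect
    ([.e, .d, .c, .d, .e, .d, .c, .d, .c, .d, .e, .d, .c, .d, .c] : List Cfsg.Spor.He.Gen) (by decide +kernel) (by decide +kernel)
  rw [show subW = [] from rfl, wordSubgroup_nil, Subgroup.mem_bot] at h
  exact h

end CfsgLib.SporRecognition.Cert.He15120
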