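import Cfsg.Agent.Lib.SporRecognition.CosetCert.Upper
import Cfsg.Agent.Lib.SporRecognition.Cert.He15120.Steps1
import Cfsg.Agent.Lib.SporRecognition.Cert.He15120.Steps2
import Cfsg.Agent.Lib.SporRecognition.Cert.He15120.Steps3

/-! Generated coset-enumeration certificate: He over <>, 15120 cosets. -/

set_option autoImplicit false
set_option maxRecDepth 20000
set_option linter.all false
set_option Elab.async false

namespace CfsgLib.SporRecognition.Cert.He15120

open CfsgLib.SporRecognition.CosetCert

theorem defs_ok_c0 : allPow 15119 (defStep inv fact) 12 0 = true := by decide +kernel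
theorem defs_ok_c1 : allPow 15119 (defStep inv fact) 12 4096 = true := by decide +kernel
theorem defs_ok_c2 : allPow 15119 (defStep inv fact) 12 8192 = true := by decide +kernel
theorem defs_ok_c3 : allPow 15119 (defStep inv fact) 12 12288 = true := by decide +kernel
theorem defs_ok : allBelow 14 15119 (defStep inv fact) = true :=
  allBelow_of_upto (hi := 16384)
    (Upto.trans (mid := 8192) (Upto.trans (mid := 4096) ((Upto.of_pow defs_ok_c0 (Nat.le_refl _)) : Upto _ _ 0 (0 + 2 ^ 12))
    ((Upto.of_pow defs_ok_c1 (Nat.le_refl _)) : Upto _ _ 4096 (4096 + 2 ^ 12)))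
    (Upto.trans (mid := 12288) ((Upto.of_pow defs_ok_c2 (Nat.le_refl _)) : Upto _ _ 8192 (8192 + 2 ^ 12))
    ((Upto.of_pow defs_ok_c3 (Nat.le_refl _)) : Upto _ _ 12288 (12288 + 2 ^ 12))))
    (by decide) (by decide)

theorem final1_c0 : allPow 15120 (finalStep fact node item1 T1 37800 1 15120) 10 0 = true := by decide +kernel
theorem final1_c1 : allPow 15120 (finalStep fact node item1 T1 37800 1 15120) 10 1024 = true := by decide +kernel
theorem final1_c2 : allPow 15120 (finalStep fact node item1 T1 37800 1 15120) 10 2048 = true := by decide +kernel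
theorem final1_c3 : allPow 15120 (finalStep fact node item1 T1 37800 1 15120) 10 3072 = true := by decide +kernel
theorem final1_c4 : allPow 15120 (finalStep fact node item1 T1 37800 1 15120) 10 4096 = true := by decide +kernel
theorem final1_c5 : allPow 15120 (finalStep fact node item1 T1 37800 1 15120) 10 5120 = true := by decide +kernel
theorem final1_c6 : allPow 15120 (finalStep fact node item1 T1 37800 1 15120) 10 6144 = true := by decide +kernel
theorem final1_c7 : allPow 15120 (finalStep fact node item1 T1 37800 1 15120) 10 7168 = true := by decide +kernel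
theorem final1_c8 : allPow 15120 (finalStep fact node item1 T1 37800 1 15120) 10 8192 = true := by decide +kernel
theorem final1_c9 : allPow 15120 (finalStep fact node item1 T1 37800 1 15120) 10 9216 = true := by decide +kernel
theorem final1_c10 : allPow 15120 (finalStep fact node item1 T1 37800 1 15120) 10 10240 = true := by decide +kernel
theorem final1_c11 : allPow 15120 (finalStep fact node item1 T1 37800 1 15120) 10 11264 = true := by decide +kernel
theorem final1_c12 : allPow 15120 (finalStep fact node item1 T1 37800 1 15120) 10 12288 = true := by decide +kernel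
theorem final1_c13 : allPow 15120 (finalStep fact node item1 T1 37800 1 15120) 10 13312 = true := by decide +kernel
theorem final1_c14 : allPow 15120 (finalStep fact node item1 T1 37800 1 15120) 10 14336 = true := by decide +kernel
theorem final1 : allBelow 14 15120 (finalStep fact node item1 T1 37800 1 15120) = true :=
  allBelow_of_upto (hi := 15360)
    (Upto.trans (mid := 7168) (Upto.trans (mid := 3072) (Upto.trans (mid := 1024) ((Upto.of_pow final1_c0 (Nat.le_refl _)) : Upto _ _ 0 (0 + 2 ^ 10))
    (Upto.trans (mid := 2048) ((Upto.of_pow final1_c1 (Nat.le_refl _)) : Upto _ _ 1024 (1024 + 2 ^ 10))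
    ((Upto.of_pow final1_c2 (Nat.le_refl _)) : Upto _ _ 2048 (2048 + 2 ^ 10))))
    (Upto.trans (mid := 5120) (Upto.trans (mid := 4096) ((Upto.of_pow final1_c3 (Nat.le_refl _)) : Upto _ _ 3072 (3072 + 2 ^ 10))
    ((Upto.of_pow final1_c4 (Nat.le_refl _)) : Upto _ _ 4096 (4096 + 2 ^ 10)))
    (Upto.trans (mid := 6144) ((Upto.of_pow final1_c5 (Nat.le_refl _)) : Upto _ _ 5120 (5120 + 2 ^ 10))
    ((Upto.of_pow final1_c6 (Nat.le_refl _)) : Upto _ _ 6144 (6144 + 2 ^ 10)))))
    (Upto.trans (mid := 11264) (Upto.trans (mid := 9216) (Upto.trans (mid := 8192) ((Upto.of_pow final1_c7 (Nat.le_refl _)) : Upto _ _ 7168 (7168 + 2 ^ 10))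
    ((Upto.of_pow final1_c8 (Nat.le_refl _)) : Upto _ _ 8192 (8192 + 2 ^ 10)))
    (Upto.trans (mid := 10240) ((Upto.of_pow final1_c9 (Nat.le_refl _)) : Upto _ _ 9216 (9216 + 2 ^ 10))
    ((Upto.of_pow final1_c10 (Nat.le_refl _)) : Upto _ _ 10240 (10240 + 2 ^ 10))))
    (Upto.trans (mid := 13312) (Upto.trans (mid := 12288) ((Upto.of_pow final1_c11 (Nat.le_refl _)) : Upto _ _ 11264 (11264 + 2 ^ 10))
    ((Upto.of_pow final1_c12 (Nat.le_refl _)) : Upto _ _ 12288 (12288 + 2 ^ 10)))
    (Upto.trans (mid := 14336) ((Upto.of_pow final1_c13 (Nat.le_refl _)) : Upto _ _ 13312 (13312 + 2 ^ 10))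
    ((Upto.of_pow final1_c14 (Nat.le_refl _)) : Upto _ _ 14336 (14336 + 2 ^ 10))))))
    (by decide) (by decide)

theorem final2_c0 : allPow 15120 (finalStep fact node item2 T2 37800 2 15120) 10 0 = true := by decide +kernel
theorem final2_c1 : allPow 15120 (finalStep fact node item2 T2 37800 2 15120) 10 1024 = true := by decide +kernel
theorem final2_c2 : allPow 15120 (finalStep fact node item2 T2 37800 2 15120) 10 2048 = true := by decide +kernel
theorem final2_c3 : allPow 15120 (finalStep fact node item2 T2 37800 2 15120) 10 3072 = true := by decide +kernel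
theorem final2_c4 : allPow 15120 (finalStep fact node item2 T2 37800 2 15120) 10 4096 = true := by decide +kernel
theorem final2_c5 : allPow 15120 (finalStep fact node item2 T2 37800 2 15120) 10 5120 = true := by decide +kernel
theorem final2_c6 : allPow 15120 (finalStep fact node item2 T2 37800 2 15120) 10 6144 = true := by decide +kernel
theorem final2_c7 : allPow 15120 (finalStep fact node item2 T2 37800 2 15120) 10 7168 = true := by decide +kernel
theorem final2_c8 : allPow 15120 (finalStep fact node item2 T2 37800 2 15120) 10 8192 = true := by decide +kernel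
theorem final2_c9 : allPow 15120 (finalStep fact node item2 T2 37800 2 15120) 10 9216 = true := by decide +kernel
theorem final2_c10 : allPow 15120 (finalStep fact node item2 T2 37800 2 15120) 10 10240 = true := by decide +kernel
theorem final2_c11 : allPow 15120 (finalStep fact node item2 T2 37800 2 15120) 10 11264 = true := by decide +kernel
theorem final2_c12 : allPow 15120 (finalStep fact node item2 T2 37800 2 15120) 10 12288 = true := by decide +kernel
theorem final2_c13 : allPow 15120 (finalStep fact node item2 T2 37800 2 15120) 10 13312 = true := by decide +kernel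
theorem final2_c14 : allPow 15120 (finalStep fact node item2 T2 37800 2 15120) 10 14336 = true := by decide +kernel
theorem final2 : allBelow 14 15120 (finalStep fact node item2 T2 37800 2 15120) = true :=
  allBelow_of_upto (hi := 15360)
    (Upto.trans (mid := 7168) (Upto.trans (mid := 3072) (Upto.trans (mid := 1024) ((Upto.of_pow final2_c0 (Nat.le_refl _)) : Upto _ _ 0 (0 + 2 ^ 10))
    (Upto.trans (mid := 2048) ((Upto.of_pow final2_c1 (Nat.le_refl _)) : Upto _ _ 1024 (1024 + 2 ^ 10))
    ((Upto.of_pow final2_c2 (Nat.le_refl _)) : Upto _ _ 2048 (2048 + 2 ^ 10))))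
    (Upto.trans (mid := 5120) (Upto.trans (mid := 4096) ((Upto.of_pow final2_c3 (Nat.le_refl _)) : Upto _ _ 3072 (3072 + 2 ^ 10))
    ((Upto.of_pow final2_c4 (Nat.le_refl _)) : Upto _ _ 4096 (4096 + 2 ^ 10)))
    (Upto.trans (mid := 6144) ((Upto.of_pow final2_c5 (Nat.le_refl _)) : Upto _ _ 5120 (5120 + 2 ^ 10))
    ((Upto.of_pow final2_c6 (Nat.le_refl _)) : Upto _ _ 6144 (6144 + 2 ^ 10)))))
    (Upto.trans (mid := 11264) (Upto.trans (mid := 9216) (Upto.trans (mid := 8192) ((Upto.of_pow final2_c7 (Nat.le_refl _)) : Upto _ _ 7168 (7168 + 2 ^ 10))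
    ((Upto.of_pow final2_c8 (Nat.le_refl _)) : Upto _ _ 8192 (8192 + 2 ^ 10)))
    (Upto.trans (mid := 10240) ((Upto.of_pow final2_c9 (Nat.le_refl _)) : Upto _ _ 9216 (9216 + 2 ^ 10))
    ((Upto.of_pow final2_c10 (Nat.le_refl _)) : Upto _ _ 10240 (10240 + 2 ^ 10))))
    (Upto.trans (mid := 13312) (Upto.trans (mid := 12288) ((Upto.of_pow final2_c11 (Nat.le_refl _)) : Upto _ _ 11264 (11264 + 2 ^ 10))
    ((Upto.of_pow final2_c12 (Nat.le_refl _)) : Upto _ _ 12288 (12288 + 2 ^ 10)))
    (Upto.trans (mid := 14336) ((Upto.of_pow final2_c13 (Nat.le_refl _)) : Upto _ _ 13312 (13312 + 2 ^ 10))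
    ((Upto.of_pow final2_c14 (Nat.le_refl _)) : Upto _ _ 14336 (14336 + 2 ^ 10))))))
    (by decide) (by decide)

theorem final3_c0 : allPow 15120 (finalStep fact node item3 T3 37800 3 15120) 10 0 = true := by decide +kernel
theorem final3_c1 : allPow 15120 (finalStep fact node item3 T3 37800 3 15120) 10 1024 = true := by decide +kernel
theorem final3_c2 : allPow 15120 (finalStep fact node item3 T3 37800 3 15120) 10 2048 = true := by decide +kernel
theorem final3_c3 : allPow 15120 (finalStep fact node item3 T3 37800 3 15120) 10 3072 = true := by decide +kernel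
theorem final3_c4 : allPow 15120 (finalStep fact node item3 T3 37800 3 15120) 10 4096 = true := by decide +kernel
theorem final3_c5 : allPow 15120 (finalStep fact node item3 T3 37800 3 15120) 10 5120 = true := by decide +kernel
theorem final3_c6 : allPow 15120 (finalStep fact node item3 T3 37800 3 15120) 10 6144 = true := by decide +kernel
theorem final3_c7 : allPow 15120 (finalStep fact node item3 T3 37800 3 15120) 10 7168 = true := by decide +kernel
theorem final3_c8 : allPow 15120 (finalStep fact node item3 T3 37800 3 15120) 10 8192 = true := by decide +kernel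
theorem final3_c9 : allPow 15120 (finalStep fact node item3 T3 37800 3 15120) 10 9216 = true := by decide +kernel
theorem final3_c10 : allPow 15120 (finalStep fact node item3 T3 37800 3 15120) 10 10240 = true := by decide +kernel
theorem final3_c11 : allPow 15120 (finalStep fact node item3 T3 37800 3 15120) 10 11264 = true := by decide +kernel
theorem final3_c12 : allPow 15120 (finalStep fact node item3 T3 37800 3 15120) 10 12288 = true := by decide +kernel
theorem final3_c13 : allPow 15120 (finalStep fact node item3 T3 37800 3 15120) 10 13312 = true := by decide +kernel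
theorem final3_c14 : allPow 15120 (finalStep fact node item3 T3 37800 3 15120) 10 14336 = true := by decide +kernel
theorem final3 : allBelow 14 15120 (finalStep fact node item3 T3 37800 3 15120) = true :=
  allBelow_of_upto (hi := 15360)
    (Upto.trans (mid := 7168) (Upto.trans (mid := 3072) (Upto.trans (mid := 1024) ((Upto.of_pow final3_c0 (Nat.le_refl _)) : Upto _ _ 0 (0 + 2 ^ 10))
    (Upto.trans (mid := 2048) ((Upto.of_pow final3_c1 (Nat.le_refl _)) : Upto _ _ 1024 (1024 + 2 ^ 10))
    ((Upto.of_pow final3_c2 (Nat.le_refl _)) : Upto _ _ 2048 (2048 + 2 ^ 10))))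
    (Upto.trans (mid := 5120) (Upto.trans (mid := 4096) ((Upto.of_pow final3_c3 (Nat.le_refl _)) : Upto _ _ 3072 (3072 + 2 ^ 10))
    ((Upto.of_pow final3_c4 (Nat.le_refl _)) : Upto _ _ 4096 (4096 + 2 ^ 10)))
    (Upto.trans (mid := 6144) ((Upto.of_pow final3_c5 (Nat.le_refl _)) : Upto _ _ 5120 (5120 + 2 ^ 10))
    ((Upto.of_pow final3_c6 (Nat.le_refl _)) : Upto _ _ 6144 (6144 + 2 ^ 10)))))
    (Upto.trans (mid := 11264) (Upto.trans (mid := 9216) (Upto.trans (mid := 8192) ((Upto.of_pow final3_c7 (Nat.le_refl _)) : Upto _ _ 7168 (7168 + 2 ^ 10))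
    ((Upto.of_pow final3_c8 (Nat.le_refl _)) : Upto _ _ 8192 (8192 + 2 ^ 10)))
    (Upto.trans (mid := 10240) ((Upto.of_pow final3_c9 (Nat.le_refl _)) : Upto _ _ 9216 (9216 + 2 ^ 10))
    ((Upto.of_pow final3_c10 (Nat.le_refl _)) : Upto _ _ 10240 (10240 + 2 ^ 10))))
    (Upto.trans (mid := 13312) (Upto.trans (mid := 12288) ((Upto.of_pow final3_c11 (Nat.le_refl _)) : Upto _ _ 11264 (11264 + 2 ^ 10))
    ((Upto.of_pow final3_c12 (Nat.le_refl _)) : Upto _ _ 12288 (12288 + 2 ^ 10)))
    (Upto.trans (mid := 14336) ((Upto.of_pow final3_c13 (Nat.le_refl _)) : Upto _ _ 13312 (13312 + 2 ^ 10))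
    ((Upto.of_pow final3_c14 (Nat.le_refl _)) : Upto _ _ 14336 (14336 + 2 ^ 10))))))
    (by decide) (by decide)

theorem final4_c0 : allPow 15120 (finalStep fact node item4 T4 37800 4 15120) 10 0 = true := by decide +kernel
theorem final4_c1 : allPow 15120 (finalStep fact node item4 T4 37800 4 15120) 10 1024 = true := by decide +kernel
theorem final4_c2 : allPow 15120 (finalStep fact node item4 T4 37800 4 15120) 10 2048 = true := by decide +kernel
theorem final4_c3 : allPow 15120 (finalStep fact node item4 T4 37800 4 15120) 10 3072 = true := by decide +kernel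
theorem final4_c4 : allPow 15120 (finalStep fact node item4 T4 37800 4 15120) 10 4096 = true := by decide +kernel
theorem final4_c5 : allPow 15120 (finalStep fact node item4 T4 37800 4 15120) 10 5120 = true := by decide +kernel
theorem final4_c6 : allPow 15120 (finalStep fact node item4 T4 37800 4 15120) 10 6144 = true := by decide +kernel
theorem final4_c7 : allPow 15120 (finalStep fact node item4 T4 37800 4 15120) 10 7168 = true := by decide +kernel
theorem final4_c8 : allPow 15120 (finalStep fact node item4 T4 37800 4 15120) 10 8192 = true := by decide +kernel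
theorem final4_c9 : allPow 15120 (finalStep fact node item4 T4 37800 4 15120) 10 9216 = true := by decide +kernel
theorem final4_c10 : allPow 15120 (finalStep fact node item4 T4 37800 4 15120) 10 10240 = true := by decide +kernel
theorem final4_c11 : allPow 15120 (finalStep fact node item4 T4 37800 4 15120) 10 11264 = true := by decide +kernel
theorem final4_c12 : allPow 15120 (finalStep fact node item4 T4 37800 4 15120) 10 12288 = true := by decide +kernel
theorem final4_c13 : allPow 15120 (finalStep fact node item4 T4 37800 4 15120) 10 13312 = true := by decide +kernel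
theorem final4_c14 : allPow 15120 (finalStep fact node item4 T4 37800 4 15120) 10 14336 = true := by decide +kernel
theorem final4 : allBelow 14 15120 (finalStep fact node item4 T4 37800 4 15120) = true :=
  allBelow_of_upto (hi := 15360)
    (Upto.trans (mid := 7168) (Upto.trans (mid := 3072) (Upto.trans (mid := 1024) ((Upto.of_pow final4_c0 (Nat.le_refl _)) : Upto _ _ 0 (0 + 2 ^ 10))
    (Upto.trans (mid := 2048) ((Upto.of_pow final4_c1 (Nat.le_refl _)) : Upto _ _ 1024 (1024 + 2 ^ 10))
    ((Upto.of_pow final4_c2 (Nat.le_refl _)) : Upto _ _ 2048 (2048 + 2 ^ 10))))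
    (Upto.trans (mid := 5120) (Upto.trans (mid := 4096) ((Upto.of_pow final4_c3 (Nat.le_refl _)) : Upto _ _ 3072 (3072 + 2 ^ 10))
    ((Upto.of_pow final4_c4 (Nat.le_refl _)) : Upto _ _ 4096 (4096 + 2 ^ 10)))
    (Upto.trans (mid := 6144) ((Upto.of_pow final4_c5 (Nat.le_refl _)) : Upto _ _ 5120 (5120 + 2 ^ 10))
    ((Upto.of_pow final4_c6 (Nat.le_refl _)) : Upto _ _ 6144 (6144 + 2 ^ 10)))))
    (Upto.trans (mid := 11264) (Upto.trans (mid := 9216) (Upto.trans (mid := 8192) ((Upto.of_pow final4_c7 (Nat.le_refl _)) : Upto _ _ 7168 (7168 + 2 ^ 10))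
    ((Upto.of_pow final4_c8 (Nat.le_refl _)) : Upto _ _ 8192 (8192 + 2 ^ 10)))
    (Upto.trans (mid := 10240) ((Upto.of_pow final4_c9 (Nat.le_refl _)) : Upto _ _ 9216 (9216 + 2 ^ 10))
    ((Upto.of_pow final4_c10 (Nat.le_refl _)) : Upto _ _ 10240 (10240 + 2 ^ 10))))
    (Upto.trans (mid := 13312) (Upto.trans (mid := 12288) ((Upto.of_pow final4_c11 (Nat.le_refl _)) : Upto _ _ 11264 (11264 + 2 ^ 10))
    ((Upto.of_pow final4_c12 (Nat.le_refl _)) : Upto _ _ 12288 (12288 + 2 ^ 10)))
    (Upto.trans (mid := 14336) ((Upto.of_pow final4_c13 (Nat.le_refl _)) : Upto _ _ 13312 (13312 + 2 ^ 10))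
    ((Upto.of_pow final4_c14 (Nat.le_refl _)) : Upto _ _ 14336 (14336 + 2 ^ 10))))))
    (by decide) (by decide)

theorem final5_c0 : allPow 15120 (finalStep fact node item5 T5 37800 5 15120) 10 0 = true := by decide +kernel
theorem final5_c1 : allPow 15120 (finalStep fact node item5 T5 37800 5 15120) 10 1024 = true := by decide +kernel
theorem final5_c2 : allPow 15120 (finalStep fact node item5 T5 37800 5 15120) 10 2048 = true := by decide +kernel
theorem final5_c3 : allPow 15120 (finalStep fact node item5 T5 37800 5 15120) 10 3072 = true := by decide +kernel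
theorem final5_c4 : allPow 15120 (finalStep fact node item5 T5 37800 5 15120) 10 4096 = true := by decide +kernel
theorem final5_c5 : allPow 15120 (finalStep fact node item5 T5 37800 5 15120) 10 5120 = true := by decide +kernel
theorem final5_c6 : allPow 15120 (finalStep fact node item5 T5 37800 5 15120) 10 6144 = true := by decide +kernel
theorem final5_c7 : allPow 15120 (finalStep fact node item5 T5 37800 5 15120) 10 7168 = true := by decide +kernel
theorem final5_c8 : allPow 15120 (finalStep fact node item5 T5 37800 5 15120) 10 8192 = true := by decide +kernel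
theorem final5_c9 : allPow 15120 (finalStep fact node item5 T5 37800 5 15120) 10 9216 = true := by decide +kernel
theorem final5_c10 : allPow 15120 (finalStep fact node item5 T5 37800 5 15120) 10 10240 = true := by decide +kernel
theorem final5_c11 : allPow 15120 (finalStep fact node item5 T5 37800 5 15120) 10 11264 = true := by decide +kernel
theorem final5_c12 : allPow 15120 (finalStep fact node item5 T5 37800 5 15120) 10 12288 = true := by decide +kernel
theorem final5_c13 : allPow 15120 (finalStep fact node item5 T5 37800 5 15120) 10 13312 = true := by decide +kernel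
theorem final5_c14 : allPow 15120 (finalStep fact node item5 T5 37800 5 15120) 10 14336 = true := by decide +kernel
theorem final5 : allBelow 14 15120 (finalStep fact node item5 T5 37800 5 15120) = true :=
  allBelow_of_upto (hi := 15360)
    (Upto.trans (mid := 7168) (Upto.trans (mid := 3072) (Upto.trans (mid := 1024) ((Upto.of_pow final5_c0 (Nat.le_refl _)) : Upto _ _ 0 (0 + 2 ^ 10))
    (Upto.trans (mid := 2048) ((Upto.of_pow final5_c1 (Nat.le_refl _)) : Upto _ _ 1024 (1024 + 2 ^ 10))
    ((Upto.of_pow final5_c2 (Nat.le_refl _)) : Upto _ _ 2048 (2048 + 2 ^ 10))))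
    (Upto.trans (mid := 5120) (Upto.trans (mid := 4096) ((Upto.of_pow final5_c3 (Nat.le_refl _)) : Upto _ _ 3072 (3072 + 2 ^ 10))
    ((Upto.of_pow final5_c4 (Nat.le_refl _)) : Upto _ _ 4096 (4096 + 2 ^ 10)))
    (Upto.trans (mid := 6144) ((Upto.of_pow final5_c5 (Nat.le_refl _)) : Upto _ _ 5120 (5120 + 2 ^ 10))
    ((Upto.of_pow final5_c6 (Nat.le_refl _)) : Upto _ _ 6144 (6144 + 2 ^ 10)))))
    (Upto.trans (mid := 11264) (Upto.trans (mid := 9216) (Upto.trans (mid := 8192) ((Upto.of_pow final5_c7 (Nat.le_refl _)) : Upto _ _ 7168 (7168 + 2 ^ 10))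
    ((Upto.of_pow final5_c8 (Nat.le_refl _)) : Upto _ _ 8192 (8192 + 2 ^ 10)))
    (Upto.trans (mid := 10240) ((Upto.of_pow final5_c9 (Nat.le_refl _)) : Upto _ _ 9216 (9216 + 2 ^ 10))
    ((Upto.of_pow final5_c10 (Nat.le_refl _)) : Upto _ _ 10240 (10240 + 2 ^ 10))))
    (Upto.trans (mid := 13312) (Upto.trans (mid := 12288) ((Upto.of_pow final5_c11 (Nat.le_refl _)) : Upto _ _ 11264 (11264 + 2 ^ 10))
    ((Upto.of_pow final5_c12 (Nat.le_refl _)) : Upto _ _ 12288 (12288 + 2 ^ 10)))
    (Upto.trans (mid := 14336) ((Upto.of_pow final5_c13 (Nat.le_refl _)) : Upto _ _ 13312 (13312 + 2 ^ 10))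
    ((Upto.of_pow final5_c14 (Nat.le_refl _)) : Upto _ _ 14336 (14336 + 2 ^ 10))))))
    (by decide) (by decide)

theorem relW_one : ∀ w ∈ relW, evalW (PresentedGroup.of (rels := (Cfsg.Spor.coxRelators Cfsg.Spor.He.edges ∪ {r | r ∈ Cfsg.Spor.He.extra}))) w = 1 := by
  have h : coxW Cfsg.Spor.He.edges pairs extraW = relW := by decide +kernel
  rw [← h]
  exact coxW_eq_one (by decide +kernel) rfl

noncomputable def tabU : Cfsg.Spor.He.Gen → Nat → Nat := fun a => tabs a true

theorem sect : ∃ s : Nat → PresentedGroup (Cfsg.Spor.coxRelators Cfsg.Spor.He.edges ∪ {r | r ∈ Cfsg.Spor.He.extra}) ⧸ wordSubgroup (Cfsg.Spor.coxRelators Cfsg.Spor.He.edges ∪ {r | r ∈ Cfsg.Spor.He.extra}) subW,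
    s 0 = ((1 : PresentedGroup (Cfsg.Spor.coxRelators Cfsg.Spor.He.edges ∪ {r | r ∈ Cfsg.Spor.He.extra})) : PresentedGroup (Cfsg.Spor.coxRelators Cfsg.Spor.He.edges ∪ {r | r ∈ Cfsg.Spor.He.extra}) ⧸ wordSubgroup (Cfsg.Spor.coxRelators Cfsg.Spor.He.edges ∪ {r | r ∈ Cfsg.Spor.He.extra}) subW) ∧
    ∀ a ∈ ([.a, .b, .c, .d, .e] : List Cfsg.Spor.He.Gen), ∀ u, u < 15120 → tabU a u < 15120 ∧
      (PresentedGroup.of (rels := (Cfsg.Spor.coxRelators Cfsg.Spor.He.edges ∪ {r | r ∈ Cfsg.Spor.He.extra})) a) • s u = s (tabU a u) :=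
  section_of_checks invols relW relW_one (by decide +kernel) subW lets data rtriv rroot 17 17 rfl rfl
    (by decide +kernel) (by decide +kernel) (fun k hk => allBelow_spec defs_ok k hk) (covers1.trans (covers2.trans (covers3))) (by decide +kernel)
    (by
      intro i hi u hu
      have hi' : i < 5 := hi
      interval_cases i
      · exact allBelow_spec final1 u hu
      · exact allBelow_spec final2 u hu
      · exact allBelow_spec final3 u hu
      · exact allBelow_spec final4 u hu
      · exact allBelow_spec final5 u hu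
      ) [.a, .b, .c, .d, .e] tabU (by
      intro a ha
      fin_cases ha
      · exact ⟨0, by decide, rfl, rfl⟩
      · exact ⟨1, by decide, rfl, rfl⟩
      · exact ⟨2, by decide, rfl, rfl⟩
      · exact ⟨3, by decide, rfl, rfl⟩
      · exact ⟨4, by decide, rfl, rfl⟩
      )

end CfsgLib.SporRecognition.Cert.He15120
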